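import Groth.Agent.Flat2B.GINLocal
import Mathlib.RingTheory.RamificationInertia.Basic
import Mathlib.RingTheory.DiscreteValuationRing.TFAE
import Mathlib.RingTheory.DedekindDomain.PID
import Mathlib.RingTheory.AdicCompletion.Basic

/-!
# Finite Dedekind extensions of complete discrete valuation rings
-/

set_option autoImplicit false

universe u v

namespace K79.CDVR

open IsLocalRing

theorem henselian (A : Type u) [CommRing A] [IsLocalRing A] [IsAdicComplete (maximalIdeal A) A] :
    HenselianLocalRing A where
  is_henselian := fun f hf a₀ h₁ h₂ =>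
    HenselianRing.is_henselian (I := IsLocalRing.maximalIdeal A) f hf a₀ h₁ (h₂.map _)

variable (A : Type u) (B : Type v) [CommRing A] [IsDomain A] [IsDiscreteValuationRing A]
  [CommRing B] [Algebra A B] [Module.Finite A B] [Module.IsTorsionFree A B]

section Complete

variable [IsAdicComplete (IsLocalRing.maximalIdeal A) A] [IsDomain B]

omit [Module.IsTorsionFree A B] in
include A in
theorem isLocalRing : IsLocalRing B := by
  have := henselian A
  exact Groth.Agent.Flat2B.GINLocal.isLocalRing_of_isIntegral_of_isDomain A B

end Complete

include A in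
theorem not_isField [IsDomain B] : ¬ IsField B := by
  intro h
  have h1 : IsField A := isField_of_isIntegral_of_isField (FaithfulSMul.algebraMap_injective A B) h
  exact IsDiscreteValuationRing.not_isField A h1

variable [IsDedekindDomain B] [IsLocalRing B]

include A in
theorem isDVR : IsDiscreteValuationRing B :=
  ((IsDiscreteValuationRing.TFAE B (not_isField A B)).out 0 2).mpr (inferInstance : IsDedekindDomain B)

omit [IsDedekindDomain B] [Module.IsTorsionFree A B] in
theorem liesOver : (maximalIdeal B).LiesOver (maximalIdeal A) := by
  refine ⟨(IsLocalRing.eq_maximalIdeal ?_).symm⟩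
  exact Ideal.isMaximal_comap_of_isIntegral_of_isMaximal (R := A) (maximalIdeal B)

theorem ef : (maximalIdeal B).ramificationIdx A * (maximalIdeal B).inertiaDeg A =
    Module.finrank A B := by
  classical
  have hl := liesOver A B
  have hne : maximalIdeal A ≠ ⊥ := IsDiscreteValuationRing.not_a_field A
  have hu : ∀ q : (maximalIdeal A).primesOver B, q.1 = maximalIdeal B := by
    rintro ⟨q, hq, hq'⟩
    have : q.IsMaximal := Ideal.IsMaximal.of_liesOver_isMaximal q (maximalIdeal A)
    exact IsLocalRing.eq_maximalIdeal this
  let _ : Unique ((maximalIdeal A).primesOver B) :=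
    { default := ⟨maximalIdeal B, inferInstance, hl⟩
      uniq := fun q => Subtype.ext (hu q) }
  have h := Ideal.sum_ramification_inertia_eq_finrank (maximalIdeal A) B
  rw [Fintype.sum_unique] at h
  exact h

theorem map_eq : (maximalIdeal A).map (algebraMap A B) =
    maximalIdeal B ^ ((maximalIdeal B).ramificationIdx A) := by
  classical
  have hl := liesOver A B
  have hdvr := isDVR A B
  have hne : (maximalIdeal A).map (algebraMap A B) ≠ ⊥ := by
    rw [Ne, Ideal.map_eq_bot_iff_of_injective (FaithfulSMul.algebraMap_injective A B)]
    exact IsDiscreteValuationRing.not_a_field A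
  have h7 := ((IsDiscreteValuationRing.TFAE B (not_isField A B)).out 0 6).mp hdvr
  obtain ⟨n, hn⟩ := h7 _ hne
  have h1 : (maximalIdeal B).ramificationIdx A = n := by
    rw [Ideal.IsDedekindDomain.ramificationIdx_eq_multiplicity (maximalIdeal A) (maximalIdeal B) hne, hn]
    refine multiplicity_pow_self ?_ ?_ n
    · exact IsDiscreteValuationRing.not_a_field B
    · rw [Ideal.isUnit_iff]
      exact (IsLocalRing.maximalIdeal.isMaximal B).ne_top
  rw [h1, hn]

end K79.CDVR
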