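import Mathlib
import Groth.Agent.CAlg.K79.CDVR
import Groth.Agent.Etalg.EppAlg

/-!
Artin-Schreier extensions of the field of Laurent series over a perfect field.
-/

set_option autoImplicit false
universe u v

open IsLocalRing

namespace K79.ArtSch

open PowerSeries in
/-- reduction of the pole order modulo `β ^ p - β` -/
theorem pole_reduction (p : ℕ) [hp : Fact p.Prime] (K : Type u) [Field K] [CharP K p] [PerfectField K]
    (F : Type v) [Field F] [Algebra (PowerSeries K) F] [IsFractionRing (PowerSeries K) F] (n : ℕ) :
    ∀ a : PowerSeries K, ∃ (β : F) (m : ℕ) (a' : PowerSeries K),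
      algebraMap (PowerSeries K) F a / algebraMap (PowerSeries K) F (X ^ n) =
        algebraMap (PowerSeries K) F a' / algebraMap (PowerSeries K) F (X ^ m) + (β ^ p - β) ∧
      (m = 0 ∨ (0 < m ∧ ¬ p ∣ m ∧ constantCoeff a' ≠ 0)) := by
  have hF : CharP F p := by
    have h1 : Function.Injective ((algebraMap (PowerSeries K) F).comp (C (R := K))) :=
      ((algebraMap (PowerSeries K) F).comp (C (R := K))).injective
    exact charP_of_injective_ringHom h1 p
  have hX : algebraMap (PowerSeries K) F X ≠ 0 := by
    rw [Ne, IsFractionRing.to_map_eq_zero_iff]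
    exact X_ne_zero
  induction n with
  | zero =>
    intro a
    refine ⟨0, 0, a, ?_, Or.inl rfl⟩
    rw [zero_pow hp.out.ne_zero]
    ring
  | succ n ih =>
    intro a
    by_cases ha : constantCoeff a = 0
    · obtain ⟨b, rfl⟩ := X_dvd_iff.mpr ha
      obtain ⟨β, m, a', h1, h2⟩ := ih b
      refine ⟨β, m, a', ?_, h2⟩
      rw [← h1, pow_succ, map_mul, map_mul, map_pow]
      field_simp
    · by_cases hn : p ∣ (n + 1)
      · obtain ⟨j, hj⟩ := hn
        have hj0 : 0 < j := by
          rcases Nat.eq_zero_or_pos j with h | h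
          · rw [h] at hj; simp at hj
          · exact h
        have hjn : j ≤ n := by
          have h2 : 2 ≤ p := hp.out.two_le
          nlinarith
        obtain ⟨i, rfl⟩ := Nat.exists_eq_add_of_le hjn
        have : ExpChar K p := ExpChar.prime hp.out
        have hperf : PerfectRing K p := PerfectField.toPerfectRing p
        obtain ⟨d, hd⟩ := (bijective_frobenius K p).2 (constantCoeff a)
        rw [frobenius_def] at hd
        have ha' : ∃ b : PowerSeries K, a = C (constantCoeff a) + X * b := by
          have h3 : constantCoeff (a - C (constantCoeff a)) = 0 := by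
            rw [map_sub, constantCoeff_C, sub_self]
          obtain ⟨b, hb⟩ := X_dvd_iff.mpr h3
          exact ⟨b, by rw [← hb]; ring⟩
        obtain ⟨b, hb⟩ := ha'
        obtain ⟨β, m, a', h1, h2⟩ := ih (b + C d * X ^ i)
        refine ⟨β + algebraMap (PowerSeries K) F (C d) / algebraMap (PowerSeries K) F (X ^ j),
          m, a', ?_, h2⟩
        rw [add_pow_char, add_sub_add_comm, ← add_assoc, ← h1, hb, ← hd, div_pow,
          ← map_pow (algebraMap (PowerSeries K) F) (X ^ j), ← pow_mul, mul_comm j p, ← hj]
        simp only [map_pow, map_add, map_mul]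
        field_simp
        ring
      · exact ⟨0, n + 1, a, by rw [zero_pow hp.out.ne_zero]; ring,
          Or.inr ⟨Nat.succ_pos n, hn, ha⟩⟩

section hensel

variable (A : Type u) (B : Type v) [CommRing A] [IsDomain A] [IsDiscreteValuationRing A]
  [CommRing B] [Algebra A B] [Module.Finite A B] [Module.IsTorsionFree A B]
  [IsDedekindDomain B] [IsLocalRing B]

omit [Module.IsTorsionFree A B] [IsDedekindDomain B] in
attribute [local instance] Ideal.Quotient.field in
theorem residue_surj (hf : (maximalIdeal B).inertiaDeg A = 1) (b : B) :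
    ∃ c : A, b - algebraMap A B c ∈ maximalIdeal B := by
  have hl := K79.CDVR.liesOver A B
  rw [Ideal.inertiaDeg_eq_of_isMaximal (maximalIdeal A) (maximalIdeal B)] at hf
  have h1 : (⊥ : Subalgebra (A ⧸ maximalIdeal A) (B ⧸ maximalIdeal B)) = ⊤ :=
    Subalgebra.bot_eq_top_of_finrank_eq_one hf
  have h2 : Ideal.Quotient.mk (maximalIdeal B) b ∈
      (⊥ : Subalgebra (A ⧸ maximalIdeal A) (B ⧸ maximalIdeal B)) := by
    rw [h1]; trivial
  obtain ⟨c, hc⟩ := Algebra.mem_bot.mp h2
  obtain ⟨c, rfl⟩ := Ideal.Quotient.mk_surjective c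
  refine ⟨c, ?_⟩
  rw [← Ideal.Quotient.eq, ← hc]
  rfl

open Polynomial in
theorem mem_range_of_artinSchreier [IsAdicComplete (maximalIdeal A) A] (p : ℕ) [hp : Fact p.Prime]
    [CharP A p] (hf : (maximalIdeal B).inertiaDeg A = 1) (b : B) (α : A)
    (hb : b ^ p - b + algebraMap A B α = 0) : ∃ z : A, algebraMap A B z = b := by
  have hl := K79.CDVR.liesOver A B
  have hinj : Function.Injective (algebraMap A B) := FaithfulSMul.algebraMap_injective A B
  have hcB : CharP B p := charP_of_injective_algebraMap hinj p
  obtain ⟨c, hc⟩ := residue_surj A B hf b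
  have hens := K79.CDVR.henselian A
  let f : A[X] := X ^ p - X + C α
  have hmon : f.Monic := by
    have h1 : f = X ^ p + (- X + C α) := by simp only [f]; ring
    rw [h1]
    apply monic_X_pow_add
    have h2 : (-X + C α : A[X]).degree ≤ 1 := by
      compute_degree
    refine lt_of_le_of_lt h2 ?_
    exact_mod_cast hp.out.one_lt
  have heval : f.eval c ∈ maximalIdeal A := by
    rw [hl.over, Ideal.mem_comap]
    have h1 : algebraMap A B (f.eval c) =
        (b - algebraMap A B c) - (b - algebraMap A B c) ^ p := by
      have h2 : algebraMap A B (f.eval c) = algebraMap A B c ^ p - algebraMap A B c +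
          algebraMap A B α := by
        simp [f]
      rw [h2, sub_pow_char]
      linear_combination hb
    rw [h1]
    exact Ideal.sub_mem _ hc (Ideal.pow_mem_of_mem _ hc p hp.out.pos)
  have hder : IsUnit (f.derivative.eval c) := by
    have h1 : f.derivative.eval c = -1 := by
      simp [f, Polynomial.derivative_X_pow]
    rw [h1]
    exact isUnit_one.neg
  obtain ⟨z, hz, hzc⟩ := hens.is_henselian f hmon c heval hder
  refine ⟨z, ?_⟩
  have hzc' : algebraMap A B (z - c) ∈ maximalIdeal B := by
    rw [← Ideal.mem_comap]
    have := hl.over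
    rw [this] at hzc
    exact hzc
  have hy : b - algebraMap A B z ∈ maximalIdeal B := by
    have h1 : b - algebraMap A B z = (b - algebraMap A B c) - algebraMap A B (z - c) := by
      rw [map_sub]; ring
    rw [h1]
    exact Ideal.sub_mem _ hc hzc'
  have hz' : algebraMap A B z ^ p - algebraMap A B z + algebraMap A B α = 0 := by
    have h2 := congrArg (algebraMap A B) hz
    simpa [f] using h2
  have hyp : (b - algebraMap A B z) ^ p = b - algebraMap A B z := by
    rw [sub_pow_char]
    linear_combination hb - hz'
  have h3 : (b - algebraMap A B z) * (1 - (b - algebraMap A B z) ^ (p - 1)) = 0 := by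
    have h4 : (b - algebraMap A B z) * (b - algebraMap A B z) ^ (p - 1) =
        (b - algebraMap A B z) ^ p := by
      rw [← pow_succ', Nat.sub_add_cancel hp.out.pos]
    rw [mul_sub, h4, hyp]
    ring
  have h5 : IsUnit (1 - (b - algebraMap A B z) ^ (p - 1)) := by
    have h6 : (b - algebraMap A B z) ^ (p - 1) ∈ maximalIdeal B :=
      Ideal.pow_mem_of_mem _ hy _ (Nat.sub_pos_of_lt hp.out.one_lt)
    by_contra h7
    have h8 : (1 : B) ∈ maximalIdeal B := by
      have h9 := Ideal.add_mem _ ((mem_maximalIdeal _).mpr h7) h6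
      rwa [sub_add_cancel] at h9
    exact (Ideal.ne_top_iff_one _).mp (maximalIdeal.isMaximal B).ne_top h8
  have h10 := (mul_eq_zero.mp h3).resolve_right h5.ne_zero
  rw [sub_eq_zero] at h10
  exact h10.symm

end hensel

end K79.ArtSch
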