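import Mathlib
import Groth.Agent.Ega4A.CompleteNoeth

/-!
Completions of the localizations of a Noetherian ring: detecting elements of modules, and the
reconstruction of a finite module from compatible families over complete local flat algebras.
-/

set_option autoImplicit false
universe u

open IsLocalRing
open scoped TensorProduct

namespace K79.CompLim

/-- the completion of the localization of `B` at the prime `q` -/
abbrev Cpl (B : Type u) [CommRing B] (q : Ideal B) [q.IsPrime] : Type u :=
  AdicCompletion (maximalIdeal (Localization.AtPrime q)) (Localization.AtPrime q)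

section cpl

variable (B : Type u) [CommRing B] [IsNoetherianRing B] (q : Ideal B) [q.IsPrime]

theorem isNoetherianRing_cpl : IsNoetherianRing (Cpl B q) :=
  Groth.Agent.Ega4A.CompleteNoeth.isNoetherianRing_adicCompletion _

theorem isLocalRing_cpl : IsLocalRing (Cpl B q) := inferInstance

theorem isAdicComplete_cpl : IsAdicComplete (maximalIdeal (Cpl B q)) (Cpl B q) := inferInstance

theorem flat_cpl : Module.Flat B (Cpl B q) :=
  have : Module.Flat (Localization.AtPrime q) (Cpl B q) := AdicCompletion.flat_of_isNoetherian _
  Module.Flat.trans B (Localization.AtPrime q) (Cpl B q)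

/-- an element of a `B`-module dying in the completed localization dies in the localization -/
theorem exists_smul_eq_zero (Y : Type u) [AddCommGroup Y] [Module B Y] (y : Y)
    (h : (1 : Cpl B q) ⊗ₜ[B] y = 0) : ∃ s : B, s ∉ q ∧ s • y = 0 := by
  have hff : Module.FaithfullyFlat (Localization.AtPrime q) (Cpl B q) := by
    have : Module.Flat (Localization.AtPrime q) (Cpl B q) := AdicCompletion.flat_of_isNoetherian _
    exact Module.FaithfullyFlat.of_flat_of_isLocalHom
  let e := TensorProduct.AlgebraTensorModule.cancelBaseChange B (Localization.AtPrime q)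
    (Localization.AtPrime q) (Cpl B q) Y
  have h1 : (1 : Cpl B q) ⊗ₜ[Localization.AtPrime q] ((1 : Localization.AtPrime q) ⊗ₜ[B] y) = 0 := by
    apply e.injective
    rw [map_zero, TensorProduct.AlgebraTensorModule.cancelBaseChange_tmul, one_smul, h]
  have h2 : (1 : Localization.AtPrime q) ⊗ₜ[B] y = 0 := by
    have hinj : Function.Injective
        (fun x : (Localization.AtPrime q) ⊗[B] Y => (1 : Cpl B q) ⊗ₜ[Localization.AtPrime q] x) :=
      Module.FaithfullyFlat.tensorProduct_mk_injective _
    apply hinj
    simp only [h1, TensorProduct.tmul_zero]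
  have h3 : TensorProduct.mk B (Localization.AtPrime q) Y 1 y =
      TensorProduct.mk B (Localization.AtPrime q) Y 1 0 := by
    rw [map_zero]; exact h2
  obtain ⟨s, hs⟩ := (IsLocalizedModule.eq_iff_exists q.primeCompl
    (TensorProduct.mk B (Localization.AtPrime q) Y 1)).mp h3
  refine ⟨s.1, s.2, ?_⟩
  rw [smul_zero] at hs
  exact hs

end cpl

theorem eq_zero_of_forall (A : Type u) [CommRing A] [IsNoetherianRing A] (M : Type u)
    [AddCommGroup M] [Module A M] (m : M)
    (h : ∀ (B : Type u) [CommRing B] [Algebra A B] [IsNoetherianRing B] [IsLocalRing B],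
      IsAdicComplete (IsLocalRing.maximalIdeal B) B → Module.Flat A B → (1 : B) ⊗ₜ[A] m = 0) :
    m = 0 := by
  by_contra hm
  have hne : (LinearMap.toSpanSingleton A M m).ker ≠ ⊤ := by
    intro h1
    apply hm
    have h2 : (1 : A) ∈ (LinearMap.toSpanSingleton A M m).ker := by rw [h1]; trivial
    simpa using h2
  obtain ⟨𝔪, h𝔪, hle⟩ := Ideal.exists_le_maximal _ hne
  have h1 := isNoetherianRing_cpl A 𝔪
  obtain ⟨s, hs, hs'⟩ := exists_smul_eq_zero A 𝔪 M m
    (h (Cpl A 𝔪) (isAdicComplete_cpl A 𝔪) (flat_cpl A 𝔪))
  exact hs (hle (by simpa using hs'))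

end K79.CompLim
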