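import Mathlib
import Groth.Agent.CAlg.K79.CompLim

/-!
The reconstruction of a finite module from compatible families over complete local flat algebras.
-/

set_option autoImplicit false
universe u

open IsLocalRing
open scoped TensorProduct

namespace K79.CompFam

open K79.CompLim

/-- A local homomorphism from a Noetherian local ring to a complete local ring extends to the
completion. -/
theorem exists_extend {A B : Type u} [CommRing A] [IsLocalRing A] [CommRing B]
    (𝔫 : Ideal B) [IsAdicComplete 𝔫 B] (f : A →+* B) (hf : (maximalIdeal A).map f ≤ 𝔫) :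
    ∃ g : AdicCompletion (maximalIdeal A) A →+* B,
      g.comp (algebraMap A (AdicCompletion (maximalIdeal A) A)) = f := by
  have hle : ∀ n, maximalIdeal A ^ n ≤ (𝔫 ^ n).comap f := fun n => by
    rw [← Ideal.map_le_iff_le_comap, Ideal.map_pow]
    exact Ideal.pow_right_mono hf n
  let F : (n : ℕ) → AdicCompletion (maximalIdeal A) A →+* B ⧸ 𝔫 ^ n := fun n =>
    (Ideal.quotientMap (𝔫 ^ n) f (hle n)).comp (AdicCompletion.evalₐ (maximalIdeal A) n).toRingHom
  have hF : ∀ {m n : ℕ} (h : m ≤ n), (Ideal.Quotient.factorPow 𝔫 h).comp (F n) = F m := by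
    intro m n h
    refine RingHom.ext fun x => ?_
    refine AdicCompletion.induction_on (maximalIdeal A) A (p := fun x =>
      ((Ideal.Quotient.factorPow 𝔫 h).comp (F n)) x = (F m) x) x fun s => ?_
    have h1 : ∀ k, F k (AdicCompletion.mk (maximalIdeal A) A s) =
        Ideal.Quotient.mk (𝔫 ^ k) (f (s.val k)) := by
      intro k
      change Ideal.quotientMap (𝔫 ^ k) f (hle k) (AdicCompletion.evalₐ (maximalIdeal A) k
        (AdicCompletion.mk (maximalIdeal A) A s)) = _
      rw [AdicCompletion.evalₐ_mk, Ideal.quotientMap_mk]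
    rw [RingHom.comp_apply, h1, h1]
    change Ideal.Quotient.mk (𝔫 ^ m) (f (s.val n)) = Ideal.Quotient.mk (𝔫 ^ m) (f (s.val m))
    rw [Ideal.Quotient.eq, ← map_sub]
    apply hle m
    rw [← Ideal.Quotient.eq]
    exact AdicCompletion.Ideal.mk_eq_mk (maximalIdeal A) h s
  refine ⟨IsAdicComplete.liftRingHom 𝔫 F hF, ?_⟩
  ext a
  rw [IsHausdorff.eq_iff_smodEq (I := 𝔫)]
  intro n
  rw [SModEq.sub_mem, smul_eq_mul, Ideal.mul_top, ← Ideal.Quotient.eq]
  rw [RingHom.comp_apply, IsAdicComplete.mk_liftRingHom]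
  change Ideal.quotientMap (𝔫 ^ n) f (hle n) (AdicCompletion.evalₐ (maximalIdeal A) n
    (algebraMap A _ a)) = _
  rw [AdicCompletion.algebraMap_apply]
  simp

/-- families of elements over all the complete Noetherian local flat algebras -/
abbrev Fam (A : Type u) [CommRing A] (M : Type u) [AddCommGroup M] [Module A M] : Type (u + 1) :=
  ∀ (B : Type u) [CommRing B] [Algebra A B] [IsNoetherianRing B] [IsLocalRing B],
    IsAdicComplete (IsLocalRing.maximalIdeal B) B → Module.Flat A B → TensorProduct A B M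

/-- compatibility -/
def Compat (A : Type u) [CommRing A] (M : Type u) [AddCommGroup M] [Module A M]
    (x : Fam A M) : Prop :=
  ∀ (B : Type u) [CommRing B] [Algebra A B] [IsNoetherianRing B] [IsLocalRing B]
    (hB : IsAdicComplete (IsLocalRing.maximalIdeal B) B) (hBf : Module.Flat A B)
    (B' : Type u) [CommRing B'] [Algebra A B'] [IsNoetherianRing B'] [IsLocalRing B']
    (hB' : IsAdicComplete (IsLocalRing.maximalIdeal B') B') (hB'f : Module.Flat A B')
    (g : B →ₐ[A] B'), LinearMap.rTensor M g.toLinearMap (x B hB hBf) = x B' hB' hB'f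

/-- every compatible family comes from the module -/
def Surj (A : Type u) [CommRing A] (M : Type u) [AddCommGroup M] [Module A M] : Prop :=
  ∀ x : Fam A M, Compat A M x → ∃ m : M, ∀ (B : Type u) [CommRing B] [Algebra A B]
    [IsNoetherianRing B] [IsLocalRing B] (hB : IsAdicComplete (IsLocalRing.maximalIdeal B) B)
    (hBf : Module.Flat A B), x B hB hBf = (1 : B) ⊗ₜ[A] m

variable {A : Type u} [CommRing A]

theorem surj_of_subsingleton (M : Type u) [AddCommGroup M] [Module A M] [Subsingleton M] :
    Surj A M := by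
  intro x _
  refine ⟨0, ?_⟩
  intro B _ _ _ _ hB hBf
  exact Subsingleton.elim _ _

theorem surj_of_exact {M' M M'' : Type u} [AddCommGroup M'] [Module A M'] [AddCommGroup M]
    [Module A M] [AddCommGroup M''] [Module A M''] (f : M' →ₗ[A] M) (g : M →ₗ[A] M'')
    (hf : Function.Injective f) (hg : Function.Surjective g) (hex : Function.Exact f g)
    (h' : Surj A M') (h'' : Surj A M'') : Surj A M := by
  intro x hx
  obtain ⟨m'', hm''⟩ := h'' (fun B _ _ _ _ hB hBf => LinearMap.lTensor B g (x B hB hBf)) (by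
    intro B _ _ _ _ hB hBf B' _ _ _ _ hB' hB'f φ
    change LinearMap.rTensor M'' φ.toLinearMap (LinearMap.lTensor B g (x B hB hBf)) =
      LinearMap.lTensor B' g (x B' hB' hB'f)
    rw [← hx B hB hBf B' hB' hB'f φ, ← LinearMap.comp_apply, ← LinearMap.comp_apply,
      LinearMap.lTensor_comp_rTensor, LinearMap.rTensor_comp_lTensor])
  obtain ⟨m, rfl⟩ := hg m''
  have key : ∀ (B : Type u) [CommRing B] [Algebra A B] [IsNoetherianRing B] [IsLocalRing B]
      (hB : IsAdicComplete (IsLocalRing.maximalIdeal B) B) (hBf : Module.Flat A B),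
      ∃ z : B ⊗[A] M', LinearMap.lTensor B f z = x B hB hBf - 1 ⊗ₜ m := by
    intro B _ _ _ _ hB hBf
    have h1 : LinearMap.lTensor B g (x B hB hBf - 1 ⊗ₜ m) = 0 := by
      rw [map_sub, sub_eq_zero, LinearMap.lTensor_tmul]
      exact hm'' B hB hBf
    exact (Module.Flat.lTensor_exact B hex _).mp h1
  let x' : Fam A M' := fun B _ _ _ _ hB hBf => Classical.choose (key B hB hBf)
  have hx' : ∀ (B : Type u) [CommRing B] [Algebra A B] [IsNoetherianRing B] [IsLocalRing B]
      (hB : IsAdicComplete (IsLocalRing.maximalIdeal B) B) (hBf : Module.Flat A B),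
      LinearMap.lTensor B f (x' B hB hBf) = x B hB hBf - 1 ⊗ₜ m := fun B _ _ _ _ hB hBf =>
    Classical.choose_spec (key B hB hBf)
  obtain ⟨m', hm'⟩ := h' x' (by
    intro B _ _ _ _ hB hBf B' _ _ _ _ hB' hB'f φ
    apply Module.Flat.lTensor_preserves_injective_linearMap (M := B') f hf
    rw [hx' B' hB' hB'f, ← hx B hB hBf B' hB' hB'f φ, ← LinearMap.comp_apply,
      LinearMap.lTensor_comp_rTensor, ← LinearMap.rTensor_comp_lTensor, LinearMap.comp_apply,
      hx' B hB hBf, map_sub, LinearMap.rTensor_tmul]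
    simp)
  refine ⟨m + f m', ?_⟩
  intro B _ _ _ _ hB hBf
  have h1 := hx' B hB hBf
  rw [hm' B hB hBf, LinearMap.lTensor_tmul, eq_sub_iff_add_eq] at h1
  rw [← h1, TensorProduct.tmul_add, add_comm]

theorem surj_of_equiv {M N : Type u} [AddCommGroup M] [Module A M] [AddCommGroup N]
    [Module A N] (e : N ≃ₗ[A] M) (h : Surj A M) : Surj A N := by
  refine surj_of_exact (M' := PUnit) (M'' := M) 0 e.toLinearMap ?_ e.surjective ?_
    (surj_of_subsingleton PUnit) h
  · intro a b _; exact Subsingleton.elim _ _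
  · intro n
    constructor
    · intro hn
      have : n = 0 := e.injective (by rw [map_zero]; exact hn)
      exact ⟨0, by rw [this]; rfl⟩
    · rintro ⟨z, rfl⟩
      exact e.map_zero

/-- an element of a module over a Noetherian ring which dies in the completed localizations at all
the associated primes is zero -/
theorem eq_zero_of_assoc (B : Type u) [CommRing B] [IsNoetherianRing B] (Y : Type u)
    [AddCommGroup Y] [Module B Y] (y : Y)
    (h : ∀ (q : Ideal B) [q.IsPrime], q ∈ associatedPrimes B Y → (1 : Cpl B q) ⊗ₜ[B] y = 0) :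
    y = 0 := by
  by_contra hy
  obtain ⟨q, hq, hle⟩ := exists_le_isAssociatedPrime_of_isNoetherianRing B y hy
  have := hq.isPrime
  obtain ⟨s, hs, hs'⟩ := exists_smul_eq_zero B q Y y (h q hq)
  apply hs
  apply hle
  rw [Submodule.mem_colon_singleton, Submodule.mem_bot]
  exact hs'

/-- the ring acts injectively on `B ⊗ A/p` outside of `p` -/
theorem smul_injective (p : Ideal A) [p.IsPrime] (B : Type u) [CommRing B] [Algebra A B]
    [Module.Flat A B] (b : A) (hb : b ∉ p) (z : B ⊗[A] (A ⧸ p)) (hz : b • z = 0) : z = 0 := by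
  have h1 : Function.Injective (LinearMap.lsmul A (A ⧸ p) b) := by
    rw [← LinearMap.ker_eq_bot, LinearMap.ker_eq_bot']
    intro c hc
    obtain ⟨c, rfl⟩ := Ideal.Quotient.mk_surjective c
    have h2 : Ideal.Quotient.mk p (b * c) = 0 := hc
    rw [Ideal.Quotient.eq_zero_iff_mem] at h2 ⊢
    exact ((inferInstance : p.IsPrime).mem_or_mem h2).resolve_left hb
  have h2 := Module.Flat.lTensor_preserves_injective_linearMap (M := B) _ h1
  have h3 : LinearMap.lTensor B (LinearMap.lsmul A (A ⧸ p) b) = LinearMap.lsmul A _ b := by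
    ext z
    simp
  rw [h3] at h2
  apply h2
  rw [map_zero]
  exact hz

theorem exists_eq_tmul_one (p : Ideal A) (B : Type u) [CommRing B] [Algebra A B]
    (z : B ⊗[A] (A ⧸ p)) : ∃ β : B, z = β ⊗ₜ 1 := by
  induction z with
  | zero => exact ⟨0, (TensorProduct.zero_tmul _ _).symm⟩
  | tmul β c =>
    obtain ⟨c, rfl⟩ := Ideal.Quotient.mk_surjective c
    refine ⟨c • β, ?_⟩
    rw [TensorProduct.smul_tmul]
    congr 1
    rw [Algebra.smul_def, mul_one]
    rfl
  | add z w hz hw =>
    obtain ⟨β, rfl⟩ := hz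
    obtain ⟨γ, rfl⟩ := hw
    exact ⟨β + γ, (TensorProduct.add_tmul _ _ _).symm⟩

theorem tmul_one_eq_zero (p : Ideal A) (B : Type u) [CommRing B] [Algebra A B] (β : B)
    (hβ : β ∈ p.map (algebraMap A B)) : β ⊗ₜ[A] (1 : A ⧸ p) = 0 := by
  induction hβ using Submodule.span_induction with
  | mem x hx =>
    obtain ⟨a, ha, rfl⟩ := hx
    rw [Algebra.algebraMap_eq_smul_one, TensorProduct.smul_tmul]
    have : a • (1 : A ⧸ p) = 0 := by
      rw [Algebra.smul_def, mul_one]
      exact Ideal.Quotient.eq_zero_iff_mem.mpr ha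
    rw [this, TensorProduct.tmul_zero]
  | zero => exact TensorProduct.zero_tmul _ _
  | add x y _ _ hx hy => rw [TensorProduct.add_tmul, hx, hy, add_zero]
  | smul c x _ hx =>
    have : (c • x) ⊗ₜ[A] (1 : A ⧸ p) = c • (x ⊗ₜ[A] (1 : A ⧸ p)) := rfl
    rw [this, hx, smul_zero]

theorem comap_eq_of_assoc (p : Ideal A) [p.IsPrime] (B : Type u) [CommRing B]
    [IsNoetherianRing B] [Algebra A B] [Module.Flat A B] (q : Ideal B)
    (hq : q ∈ associatedPrimes B (B ⊗[A] (A ⧸ p))) : p = q.comap (algebraMap A B) := by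
  have hq' : IsAssociatedPrime q (B ⊗[A] (A ⧸ p)) := hq
  rw [isAssociatedPrime_iff] at hq'
  obtain ⟨hprime, z, hz⟩ := hq'
  have hz0 : z ≠ 0 := by
    rintro rfl
    apply hprime.ne_top
    rw [hz]
    rw [Ideal.eq_top_iff_one, Submodule.mem_colon_singleton, smul_zero]
    exact Submodule.zero_mem _
  have hmem : ∀ a : A, a ∈ q.comap (algebraMap A B) ↔ a • z = 0 := by
    intro a
    rw [Ideal.mem_comap, hz, Submodule.mem_colon_singleton, Submodule.mem_bot, algebraMap_smul]
  apply le_antisymm
  · intro a ha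
    rw [hmem]
    obtain ⟨β, rfl⟩ := exists_eq_tmul_one p B z
    rw [TensorProduct.smul_tmul']
    apply tmul_one_eq_zero
    rw [Algebra.smul_def]
    exact Ideal.mul_mem_right _ _ (Ideal.mem_map_of_mem _ ha)
  · intro a ha
    by_contra hap
    exact hz0 (smul_injective p B a hap z ((hmem a).mp ha))

/-- the algebra map to the completed localization -/
noncomputable def toCpl (B : Type u) [CommRing B] [Algebra A B] (q : Ideal B) [q.IsPrime] :
    B →ₐ[A] Cpl B q :=
  IsScalarTower.toAlgHom A B (Cpl B q)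

theorem rTensor_eq_zero (B : Type u) [CommRing B] [Algebra A B] (q : Ideal B) [q.IsPrime]
    (N : Type u) [AddCommGroup N] [Module A N] (y : B ⊗[A] N)
    (h : LinearMap.rTensor N (toCpl (A := A) B q).toLinearMap y = 0) :
    (1 : Cpl B q) ⊗ₜ[B] y = 0 := by
  let e := TensorProduct.AlgebraTensorModule.cancelBaseChange A B B (Cpl B q) N
  have h1 : ∀ y : B ⊗[A] N, e ((1 : Cpl B q) ⊗ₜ[B] y) =
      LinearMap.rTensor N (toCpl (A := A) B q).toLinearMap y := by
    intro y
    induction y with
    | zero => rw [TensorProduct.tmul_zero, map_zero, map_zero]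
    | tmul b n =>
      rw [TensorProduct.AlgebraTensorModule.cancelBaseChange_tmul, LinearMap.rTensor_tmul]
      congr 1
      rw [Algebra.smul_def, mul_one]
      rfl
    | add x y hx hy => rw [TensorProduct.tmul_add, map_add, map_add, hx, hy]
  apply e.injective
  rw [h1, h, map_zero]

theorem exists_algHom (p : Ideal A) [p.IsPrime] (B : Type u) [CommRing B] [IsNoetherianRing B]
    [Algebra A B] (q : Ideal B) [q.IsPrime] (h : p = q.comap (algebraMap A B)) :
    Nonempty (Cpl A p →ₐ[A] Cpl B q) := by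
  let φ : Localization.AtPrime p →+* Localization.AtPrime q :=
    Localization.localRingHom p q (algebraMap A B) h
  have := isAdicComplete_cpl B q
  obtain ⟨g, hg⟩ := exists_extend (maximalIdeal (Cpl B q))
    ((algebraMap (Localization.AtPrime q) (Cpl B q)).comp φ) (by
      rw [← Ideal.map_map, AdicCompletion.maximalIdeal_eq_map]
      apply Ideal.map_mono
      exact ((IsLocalRing.local_hom_TFAE φ).out 0 2).mp
        (Localization.isLocalHom_localRingHom p q (algebraMap A B) h))
  refine ⟨{ g with commutes' := ?_ }⟩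
  intro a
  change g (algebraMap A (Cpl A p) a) = algebraMap A (Cpl B q) a
  rw [IsScalarTower.algebraMap_apply A (Localization.AtPrime p) (Cpl A p),
    ← RingHom.comp_apply g, hg, RingHom.comp_apply]
  have h1 : φ (algebraMap A (Localization.AtPrime p) a) =
      algebraMap B (Localization.AtPrime q) (algebraMap A B a) :=
    Localization.localRingHom_to_map p q (algebraMap A B) h a
  rw [h1, ← IsScalarTower.algebraMap_apply B (Localization.AtPrime q) (Cpl B q),
    ← IsScalarTower.algebraMap_apply A B (Cpl B q)]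

theorem exists_approx [IsNoetherianRing A] (p : Ideal A) [p.IsPrime] (z : Cpl A p ⊗[A] (A ⧸ p)) :
    ∃ s : A, s ∉ p ∧ ∃ a : A, s • z = 1 ⊗ₜ (Ideal.Quotient.mk p a) := by
  obtain ⟨β, rfl⟩ := exists_eq_tmul_one p _ z
  have hbij := AdicCompletion.residueField_map_bijective_of_fg (R := Localization.AtPrime p)
    (maximalIdeal _).fg_of_isNoetherianRing
  obtain ⟨r, hr⟩ := hbij.2 (residue _ β)
  obtain ⟨α, rfl⟩ := residue_surjective r
  rw [ResidueField.map_residue] at hr
  obtain ⟨a, s, rfl⟩ := IsLocalization.exists_mk'_eq p.primeCompl α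
  refine ⟨s, s.2, a, ?_⟩
  have h0 : p.map (algebraMap A (Cpl A p)) = maximalIdeal (Cpl A p) := by
    have h5 := congrArg (Ideal.map (algebraMap (Localization.AtPrime p) (Cpl A p)))
      (Localization.AtPrime.map_eq_maximalIdeal (I := p))
    rw [AdicCompletion.maximalIdeal_eq_map, ← h5, Ideal.map_map, ← IsScalarTower.algebraMap_eq]
  have h1 : (s : A) • β - algebraMap A (Cpl A p) a ∈ p.map (algebraMap A (Cpl A p)) := by
    have h3 : β - algebraMap (Localization.AtPrime p) (Cpl A p)
        (IsLocalization.mk' (Localization.AtPrime p) a s) ∈ maximalIdeal (Cpl A p) :=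
      Ideal.Quotient.eq.mp hr.symm
    have h4 : algebraMap A (Cpl A p) a = (s : A) • algebraMap (Localization.AtPrime p) (Cpl A p)
        (IsLocalization.mk' (Localization.AtPrime p) a s) := by
      rw [IsScalarTower.algebraMap_apply A (Localization.AtPrime p) (Cpl A p), Algebra.smul_def,
        IsScalarTower.algebraMap_apply A (Localization.AtPrime p) (Cpl A p) (s : A), ← map_mul,
        IsLocalization.mk'_spec' (Localization.AtPrime p) a s]
    rw [h0, h4, ← smul_sub, Algebra.smul_def]
    exact Ideal.mul_mem_left _ _ h3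
  have h2 := tmul_one_eq_zero p (Cpl A p) _ h1
  rw [TensorProduct.sub_tmul, sub_eq_zero] at h2
  rw [TensorProduct.smul_tmul', h2, Algebra.algebraMap_eq_smul_one, TensorProduct.smul_tmul,
    Algebra.smul_def, mul_one]
  rfl

theorem surj_prime [IsNoetherianRing A] (p : Ideal A) [p.IsPrime] : Surj A (A ⧸ p) := by
  intro x hx
  have hN := isNoetherianRing_cpl A p
  obtain ⟨s, hs, a, ha⟩ := exists_approx p (x (Cpl A p) (isAdicComplete_cpl A p) (flat_cpl A p))
  have key : ∀ (B : Type u) [CommRing B] [Algebra A B] [IsNoetherianRing B] [IsLocalRing B]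
      (hB : IsAdicComplete (IsLocalRing.maximalIdeal B) B) (hBf : Module.Flat A B),
      s • x B hB hBf = 1 ⊗ₜ (Ideal.Quotient.mk p a) := by
    intro B _ _ _ _ hB hBf
    rw [← sub_eq_zero]
    apply eq_zero_of_assoc B
    intro q _ hq
    have hp := comap_eq_of_assoc p B q hq
    obtain ⟨g⟩ := exists_algHom p B q hp
    apply rTensor_eq_zero (A := A) B q
    have hN' := isNoetherianRing_cpl B q
    have hf' : Module.Flat A (Cpl B q) := by
      have := flat_cpl B q
      exact Module.Flat.trans A B (Cpl B q)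
    have h1 := hx B hB hBf (Cpl B q) (isAdicComplete_cpl B q) hf' (toCpl B q)
    have h2 := hx (Cpl A p) (isAdicComplete_cpl A p) (flat_cpl A p) (Cpl B q)
      (isAdicComplete_cpl B q) hf' g
    rw [map_sub, LinearMap.map_smul, h1, ← h2, ← LinearMap.map_smul, ha]
    rw [LinearMap.rTensor_tmul, LinearMap.rTensor_tmul]
    simp
  -- divisibility of `a` by `s` modulo `p`
  have hdiv : ∃ c : A ⧸ p, s • c = Ideal.Quotient.mk p a := by
    have h3 : (LinearMap.range (LinearMap.lsmul A (A ⧸ p) s)).mkQ (Ideal.Quotient.mk p a) = 0 := by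
      apply eq_zero_of_forall A
      intro B _ _ _ _ hB hBf
      have h4 := congrArg (LinearMap.lTensor B (LinearMap.range (LinearMap.lsmul A (A ⧸ p) s)).mkQ)
        (key B hB hBf)
      rw [LinearMap.lTensor_tmul] at h4
      rw [← h4, LinearMap.map_smul]
      obtain ⟨β, hβ⟩ := exists_eq_tmul_one p B (x B hB hBf)
      rw [hβ, LinearMap.lTensor_tmul, ← TensorProduct.tmul_smul, ← LinearMap.map_smul]
      have h5 : (LinearMap.range (LinearMap.lsmul A (A ⧸ p) s)).mkQ (s • (1 : A ⧸ p)) = 0 := by
        rw [Submodule.mkQ_apply, Submodule.Quotient.mk_eq_zero]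
        exact ⟨1, rfl⟩
      rw [h5, TensorProduct.tmul_zero]
    rw [Submodule.mkQ_apply, Submodule.Quotient.mk_eq_zero] at h3
    exact h3
  obtain ⟨c, hc⟩ := hdiv
  refine ⟨c, ?_⟩
  intro B _ _ _ _ hB hBf
  rw [← sub_eq_zero]
  apply smul_injective p B s hs
  rw [smul_sub, key B hB hBf, ← hc, TensorProduct.tmul_smul, sub_self]

theorem surj [IsNoetherianRing A] (M : Type u) [AddCommGroup M] [Module A M]
    [Module.Finite A M] : Surj A M := by
  induction ‹Module.Finite A M› using
    IsNoetherianRing.induction_on_isQuotientEquivQuotientPrime A with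
  | subsingleton N => exact surj_of_subsingleton N
  | quotient N p f => exact surj_of_equiv f (surj_prime p.1)
  | exact N₁ N₂ N₃ f g hf hg hfg h₁ h₃ => exact surj_of_exact f g hf hg hfg h₁ h₃

end K79.CompFam
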