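import Mathlib.RingTheory.DedekindDomain.Different

/-!
# The different and localization
-/

set_option autoImplicit false

namespace K79.DiffLoc

open nonZeroDivisors

section Mem

variable (A K L B : Type*) [CommRing A] [Field K] [CommRing B] [Field L]
  [Algebra A K] [Algebra B L] [Algebra A B] [Algebra K L] [Algebra A L]
  [IsScalarTower A K L] [IsScalarTower A B L]

theorem mem_traceDual_one (x : L) :
    x ∈ Submodule.traceDual A K (1 : Submodule B L) ↔
      ∀ b : B, Algebra.trace K L (x * algebraMap B L b) ∈ (algebraMap A K).range := by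
  rw [Submodule.mem_traceDual]
  constructor
  · intro h b
    exact h _ (Submodule.mem_one.mpr ⟨b, rfl⟩)
  · intro h a ha
    obtain ⟨b, rfl⟩ := Submodule.mem_one.mp ha
    exact h b

variable [IsDomain A] [IsFractionRing A K] [IsIntegrallyClosed A] [FiniteDimensional K L]
  [Algebra.IsSeparable K L] [IsIntegralClosure B A L] [IsDedekindDomain B] [Module.IsTorsionFree A B]
  [IsFractionRing B L]

theorem mem_differentIdeal (y : B) :
    y ∈ differentIdeal A B ↔ ∀ x : L, x ∈ Submodule.traceDual A K (1 : Submodule B L) →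
      algebraMap B L y * x ∈ (algebraMap B L).range := by
  have h1 := coeSubmodule_differentIdeal A K (L := L) (B := B)
  have h2 : y ∈ differentIdeal A B ↔ algebraMap B L y ∈
      IsLocalization.coeSubmodule L (differentIdeal A B) := by
    rw [IsLocalization.mem_coeSubmodule]
    constructor
    · intro h
      exact ⟨y, h, rfl⟩
    · rintro ⟨z, hz, hzy⟩
      rw [← IsFractionRing.injective B L hzy]
      exact hz
  rw [h2, h1, Submodule.mem_div_iff_forall_mul_mem]
  refine forall₂_congr fun x _ => ?_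
  rw [Submodule.mem_one]
  rfl

omit [Module.IsTorsionFree A B] in
theorem fg_traceDual : (Submodule.traceDual A K (1 : Submodule B L)).FG := by
  have h := FractionalIdeal.coe_dual A K (I := (1 : FractionalIdeal B⁰ L)) one_ne_zero
  rw [FractionalIdeal.coe_one] at h
  rw [← h]
  exact FractionalIdeal.fg_of_isNoetherianRing le_rfl _

end Mem

section Main

variable (A B Aₛ Bₛ K L : Type*) [CommRing A] [IsDomain A] [IsIntegrallyClosed A] [CommRing B]
  [IsDedekindDomain B]
  [Algebra A B] [Module.Finite A B] [Module.IsTorsionFree A B]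
  [CommRing Aₛ] [IsDomain Aₛ] [IsIntegrallyClosed Aₛ] [CommRing Bₛ] [IsDedekindDomain Bₛ]
  [Algebra A Aₛ] [Algebra B Bₛ] [Algebra Aₛ Bₛ] [Algebra A Bₛ] [IsScalarTower A Aₛ Bₛ]
  [IsScalarTower A B Bₛ] [Module.IsTorsionFree Aₛ Bₛ]
  [Field K] [Field L] [Algebra K L] [Algebra A K] [Algebra A L] [Algebra B L] [Algebra Aₛ K]
  [Algebra Aₛ L] [Algebra Bₛ L]
  [IsScalarTower A K L] [IsScalarTower A B L] [IsScalarTower Aₛ K L] [IsScalarTower Aₛ Bₛ L]
  [IsScalarTower A Aₛ K] [IsScalarTower B Bₛ L]
  [IsFractionRing A K] [IsFractionRing B L] [IsFractionRing Aₛ K] [IsFractionRing Bₛ L]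
  [FiniteDimensional K L] [Algebra.IsSeparable K L] [IsIntegralClosure B A L]
  [IsIntegralClosure Bₛ Aₛ L]
  (S : Submonoid A) [IsLocalization S Aₛ] [IsLocalization (Algebra.algebraMapSubmonoid B S) Bₛ]

omit [IsDomain A] [IsIntegrallyClosed A] [IsDedekindDomain B] [Module.Finite A B]
  [Module.IsTorsionFree A B] [IsDomain Aₛ] [IsIntegrallyClosed Aₛ] [IsDedekindDomain Bₛ]
  [Module.IsTorsionFree Aₛ Bₛ] [IsScalarTower A Aₛ Bₛ] [IsScalarTower A B Bₛ] [IsFractionRing A K] [IsFractionRing B L]
  [IsFractionRing Bₛ L] [FiniteDimensional K L] [Algebra.IsSeparable K L]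
  [IsIntegralClosure B A L] [IsIntegralClosure Bₛ Aₛ L] [IsFractionRing Aₛ K] in
include S in
theorem traceDual_le (x : L) (hx : x ∈ Submodule.traceDual A K (1 : Submodule B L)) :
    x ∈ Submodule.traceDual Aₛ K (1 : Submodule Bₛ L) := by
  rw [mem_traceDual_one] at hx ⊢
  intro b'
  obtain ⟨⟨b, ⟨_, s, hs, rfl⟩⟩, hb⟩ := IsLocalization.surj (Algebra.algebraMapSubmonoid B S) b'
  simp only at hb
  obtain ⟨a, ha⟩ := hx b
  have hu := IsLocalization.map_units Aₛ (⟨s, hs⟩ : S)
  have hu' : IsUnit (algebraMap A K s) := by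
    rw [IsScalarTower.algebraMap_apply A Aₛ K]
    exact hu.map _
  have h1 : (algebraMap A K s) * Algebra.trace K L (x * algebraMap Bₛ L b') = algebraMap A K a := by
    rw [ha, ← smul_eq_mul, ← map_smul, Algebra.smul_def]
    congr 1
    have h2 : algebraMap K L (algebraMap A K s) = algebraMap B L (algebraMap A B s) := by
      rw [← IsScalarTower.algebraMap_apply, ← IsScalarTower.algebraMap_apply]
    rw [h2, IsScalarTower.algebraMap_apply B Bₛ L, IsScalarTower.algebraMap_apply B Bₛ L b, ← hb,
      map_mul]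
    ring
  refine ⟨IsLocalization.mk' Aₛ a (⟨s, hs⟩ : S), ?_⟩
  apply hu'.mul_left_cancel
  rw [h1]
  have h3 := IsLocalization.mk'_spec' Aₛ a (⟨s, hs⟩ : S)
  rw [IsScalarTower.algebraMap_apply A Aₛ K, ← map_mul, h3, ← IsScalarTower.algebraMap_apply]

omit [IsDomain A] [IsIntegrallyClosed A] [IsDedekindDomain B]
  [Module.IsTorsionFree A B] [IsDomain Aₛ] [IsIntegrallyClosed Aₛ] [IsDedekindDomain Bₛ]
  [Module.IsTorsionFree Aₛ Bₛ] [Algebra A Bₛ] [IsScalarTower A Aₛ Bₛ] [IsScalarTower A B Bₛ] [IsFractionRing A K] [IsFractionRing B L]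
  [IsFractionRing Bₛ L] [FiniteDimensional K L] [Algebra.IsSeparable K L]
  [IsIntegralClosure B A L] [IsIntegralClosure Bₛ Aₛ L] [IsFractionRing Aₛ K]
  [IsLocalization (Algebra.algebraMapSubmonoid B S) Bₛ] in
theorem exists_smul_mem_traceDual (x : L)
    (hx : x ∈ Submodule.traceDual Aₛ K (1 : Submodule Bₛ L)) :
    ∃ s ∈ S, algebraMap A L s * x ∈ Submodule.traceDual A K (1 : Submodule B L) := by
  classical
  rw [mem_traceDual_one] at hx
  obtain ⟨T, hT⟩ := (inferInstance : Module.Finite A B).fg_top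
  choose c hc using fun b : B => hx (algebraMap B Bₛ b)
  obtain ⟨s, hs⟩ := IsLocalization.exist_integer_multiples_of_finset S (T.image c)
  refine ⟨s, s.2, ?_⟩
  rw [mem_traceDual_one]
  intro b
  have hb : b ∈ Submodule.span A (T : Set B) := by
    rw [hT]
    trivial
  induction hb using Submodule.span_induction with
  | mem b hb =>
    obtain ⟨a, ha⟩ := hs (c b) (Finset.mem_image_of_mem c hb)
    refine ⟨a, ?_⟩
    have h1 : algebraMap A L s * x * algebraMap B L b =
        (algebraMap A K (s : A)) • (x * algebraMap Bₛ L (algebraMap B Bₛ b)) := by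
      rw [Algebra.smul_def, ← IsScalarTower.algebraMap_apply A K L,
        ← IsScalarTower.algebraMap_apply B Bₛ L]
      ring
    rw [h1, map_smul, ← hc b, IsScalarTower.algebraMap_apply A Aₛ K a, ha, Algebra.smul_def,
      map_mul, ← IsScalarTower.algebraMap_apply A Aₛ K]
    rfl
  | zero => exact ⟨0, by simp⟩
  | add b b' _ _ h h' =>
    obtain ⟨a, ha⟩ := h
    obtain ⟨a', ha'⟩ := h'
    exact ⟨a + a', by rw [map_add, ha, ha', map_add, mul_add, map_add]⟩
  | smul r b _ h =>
    obtain ⟨a, ha⟩ := h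
    refine ⟨r * a, ?_⟩
    have h1 : algebraMap A L s * x * algebraMap B L (r • b) =
        (algebraMap A K r) • (algebraMap A L s * x * algebraMap B L b) := by
      rw [Algebra.smul_def, Algebra.smul_def, map_mul, ← IsScalarTower.algebraMap_apply A B L,
        ← IsScalarTower.algebraMap_apply A K L]
      ring
    rw [h1, map_smul, ← ha, map_mul, smul_eq_mul]

include K L S in
theorem map_differentIdeal : Ideal.map (algebraMap B Bₛ) (differentIdeal A B) = differentIdeal Aₛ Bₛ := by
  classical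
  have hunit : ∀ s ∈ S, IsUnit (algebraMap B Bₛ (algebraMap A B s)) := fun s hs =>
    IsLocalization.map_units Bₛ (⟨algebraMap A B s, ⟨s, hs, rfl⟩⟩ : Algebra.algebraMapSubmonoid B S)
  have hAL : ∀ s : A, algebraMap A L s = algebraMap Bₛ L (algebraMap B Bₛ (algebraMap A B s)) := by
    intro s
    rw [← IsScalarTower.algebraMap_apply B Bₛ L, ← IsScalarTower.algebraMap_apply A B L]
  apply le_antisymm
  · rw [Ideal.map_le_iff_le_comap]
    intro y hy
    rw [Ideal.mem_comap, mem_differentIdeal Aₛ K L Bₛ]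
    rw [mem_differentIdeal A K L B] at hy
    intro x hx
    obtain ⟨s, hs, hsx⟩ := exists_smul_mem_traceDual A B Aₛ Bₛ K L S x hx
    obtain ⟨b, hb⟩ := hy _ hsx
    obtain ⟨u, hu⟩ := (hunit s hs).exists_right_inv
    refine ⟨algebraMap B Bₛ b * u, ?_⟩
    rw [map_mul, ← IsScalarTower.algebraMap_apply B Bₛ L b, hb, hAL,
      ← IsScalarTower.algebraMap_apply B Bₛ L y]
    have h1 : algebraMap Bₛ L (algebraMap B Bₛ (algebraMap A B s)) * algebraMap Bₛ L u = 1 := by
      rw [← map_mul, hu, map_one]
    linear_combination (algebraMap B L y * x) * h1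
  · intro y' hy'
    rw [mem_differentIdeal Aₛ K L Bₛ] at hy'
    obtain ⟨⟨y, ⟨_, s, hs, rfl⟩⟩, hy⟩ := IsLocalization.surj (Algebra.algebraMapSubmonoid B S) y'
    simp only at hy
    obtain ⟨T, hT⟩ := fg_traceDual A K L B
    have hTm : ∀ d ∈ T, ∃ e : Bₛ, algebraMap Bₛ L e = algebraMap B L y * d := by
      intro d hd
      have h1 : d ∈ Submodule.traceDual A K (1 : Submodule B L) := by
        rw [← hT]
        exact Submodule.subset_span hd
      obtain ⟨e, he⟩ := hy' d (traceDual_le A B Aₛ Bₛ K L S d h1)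
      refine ⟨algebraMap B Bₛ (algebraMap A B s) * e, ?_⟩
      rw [map_mul, he, IsScalarTower.algebraMap_apply B Bₛ L y, ← hy, map_mul]
      ring
    choose! e he using hTm
    obtain ⟨⟨_, t, ht, rfl⟩, htm⟩ := IsLocalization.exist_integer_multiples_of_finset
      (Algebra.algebraMapSubmonoid B S) (T.image e)
    have hmem : algebraMap A B t * y ∈ differentIdeal A B := by
      rw [mem_differentIdeal A K L B]
      intro x hx
      rw [← hT] at hx
      induction hx using Submodule.span_induction with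
      | mem d hd =>
        obtain ⟨b, hb⟩ := htm (e d) (Finset.mem_image_of_mem e hd)
        refine ⟨b, ?_⟩
        rw [IsScalarTower.algebraMap_apply B Bₛ L b, hb, Algebra.smul_def, map_mul, he d hd,
          ← IsScalarTower.algebraMap_apply B Bₛ L, map_mul]
        ring
      | zero => exact ⟨0, by simp⟩
      | add a b _ _ ha hb =>
        obtain ⟨a', ha'⟩ := ha
        obtain ⟨b', hb'⟩ := hb
        exact ⟨a' + b', by rw [map_add, ha', hb', mul_add]⟩
      | smul r a _ ha =>
        obtain ⟨a', ha'⟩ := ha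
        exact ⟨r * a', by rw [map_mul, ha', Algebra.smul_def]; ring⟩
    have h2 : algebraMap B Bₛ (algebraMap A B t * y) ∈
        Ideal.map (algebraMap B Bₛ) (differentIdeal A B) := Ideal.mem_map_of_mem _ hmem
    rw [map_mul, ← hy] at h2
    have h3 : y' * (algebraMap B Bₛ (algebraMap A B t) * algebraMap B Bₛ (algebraMap A B s)) ∈
        Ideal.map (algebraMap B Bₛ) (differentIdeal A B) := by
      convert! h2 using 1
      ring
    exact (Ideal.mul_unit_mem_iff_mem _ ((hunit t ht).mul (hunit s hs))).mp h3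

end Main

end K79.DiffLoc
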