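import Groth.Agent.Sga2.LefExtAnn
import Groth.Agent.S0563

/-!
# Vanishing of `Ext^j(M, A)` and projective dimension over a regular local ring
-/

set_option autoImplicit false

universe u

namespace K79.ExtSelf

open CategoryTheory Abelian

variable {R : Type u} [CommRing R]

theorem step [IsNoetherianRing R] (M : ModuleCat.{u} R) (j : ℕ)
    (h0 : Subsingleton (Ext M (ModuleCat.of R R) j))
    (h1 : ∀ L : ModuleCat.{u} R, Module.Finite R L → Subsingleton (Ext M L (j + 1)))
    (L : ModuleCat.{u} R) (hL : Module.Finite R L) : Subsingleton (Ext M L j) := by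
  obtain ⟨n, f, hf⟩ := Module.Finite.exists_fin' R L
  let S : ShortComplex (ModuleCat.{u} R) := f.shortComplexKer
  have hS : S.ShortExact := LinearMap.shortExact_shortComplexKer hf
  have h2 : Subsingleton (Ext M S.X₁ (j + 1)) := h1 _ (by
    change Module.Finite R (LinearMap.ker f)
    infer_instance)
  have h3 : Subsingleton (Ext M S.X₂ j) := Groth.Agent.Sga2.LefExtAnn.ext_free_subsingleton h0 n
  refine subsingleton_of_forall_eq 0 fun x => ?_
  obtain ⟨y, rfl⟩ := Ext.covariant_sequence_exact₃ M hS (x : Ext M S.X₃ j) rfl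
    (Subsingleton.eq_zero _)
  rw [Subsingleton.eq_zero y, Ext.zero_comp]

theorem main [IsRegularLocalRing R] (M : ModuleCat.{u} R) [Module.Finite R M] (n : ℕ)
    (h : ∀ j : ℕ, n ≤ j → Subsingleton (Ext M (ModuleCat.of R R) j)) :
    HasProjectiveDimensionLT M n := by
  obtain ⟨d, hd⟩ : ∃ d : ℕ, ringKrullDim R = d := by
    have h1 : ringKrullDim R ≠ ⊤ := ringKrullDim_ne_top
    have h2 : ringKrullDim R ≠ ⊥ := ringKrullDim_ne_bot
    obtain ⟨e, he⟩ := WithBot.ne_bot_iff_exists.mp h2
    have h3 : e ≠ ⊤ := by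
      rintro rfl
      exact h1 he.symm
    obtain ⟨d, rfl⟩ := ENat.ne_top_iff_exists.mp h3
    exact ⟨d, he.symm⟩
  have hpd : HasProjectiveDimensionLT M (d + 1) := Groth.Agent.S0563.result R d hd M
  -- descending induction
  have key : ∀ k : ℕ, ∀ j : ℕ, n ≤ j → d + 1 ≤ j + k → ∀ L : ModuleCat.{u} R, Module.Finite R L →
      Subsingleton (Ext M L j) := by
    intro k
    induction k with
    | zero =>
      intro j _ hj L _
      exact HasProjectiveDimensionLT.subsingleton M (d + 1) j (by omega) L
    | succ k ih =>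
      intro j hnj hj L hL
      exact step M j (h j hnj) (fun L hL => ih (j + 1) (by omega) (by omega) L hL) L hL
  exact ModuleCat.hasProjectiveDimensionLT_of_forall_finite M n
    (fun L hL => key (d + 1) n le_rfl (by omega) L hL)

end K79.ExtSelf
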