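import Mathlib.RingTheory.Smooth.Field
import Mathlib.RingTheory.Etale.Kaehler
import Mathlib.RingTheory.Etale.Field
import Mathlib.RingTheory.Kaehler.Polynomial
import Mathlib.LinearAlgebra.Dimension.Constructions
import Mathlib.RingTheory.AlgebraicIndependent.TranscendenceBasis

/-!
# Differentials and separating transcendence bases

* `kaehlerBasis`: if `v` is algebraically independent and `L` is separable algebraic over `K(v)`, the `D (v i)` form
  a basis of `Ω[L⁄K]`.
* `rank_kaehler`: for `K` perfect and `L / K` finitely generated, `Ω[L⁄K]` has rank the transcendence degree.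
-/

set_option autoImplicit false

namespace K79.KaehlerTr

open MvPolynomial TensorProduct KaehlerDifferential

universe u v w

variable {K : Type u} {L : Type v} {ι : Type w} [Field K] [Field L] [Algebra K L]

open scoped IntermediateField.algebraAdjoinAdjoin in
/-- `L` is formally etale over the polynomial ring in a separating family. -/
theorem formallyEtale {v : ι → L} (hb : AlgebraicIndependent K v)
    [Algebra.IsSeparable (IntermediateField.adjoin K (Set.range v)) L]
    [Algebra (MvPolynomial ι K) L] (h : ∀ p : MvPolynomial ι K, algebraMap (MvPolynomial ι K) L p = aeval v p) :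
    Algebra.FormallyEtale (MvPolynomial ι K) L := by
  let _ : Algebra (MvPolynomial ι K) (Algebra.adjoin K (Set.range v)) :=
    hb.aevalEquiv.toAlgHom.toRingHom.toAlgebra
  let e : MvPolynomial ι K ≃ₐ[MvPolynomial ι K] Algebra.adjoin K (Set.range v) :=
    { hb.aevalEquiv with
      commutes' := fun p => rfl }
  have h1 : Algebra.FormallyEtale (MvPolynomial ι K) (Algebra.adjoin K (Set.range v)) :=
    Algebra.FormallyEtale.of_equiv e
  have h2 : Algebra.FormallyEtale (Algebra.adjoin K (Set.range v))
      (IntermediateField.adjoin K (Set.range v)) :=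
    .of_isLocalization (nonZeroDivisors _)
  have h3 : Algebra.FormallyEtale (IntermediateField.adjoin K (Set.range v)) L :=
    Algebra.FormallyEtale.of_isSeparable _ L
  have h4 : Algebra.FormallyEtale (Algebra.adjoin K (Set.range v)) L :=
    .comp _ (IntermediateField.adjoin K (Set.range v)) _
  have : IsScalarTower (MvPolynomial ι K) (Algebra.adjoin K (Set.range v)) L := by
    refine IsScalarTower.of_algebraMap_eq fun p => ?_
    rw [h]
    exact (hb.algebraMap_aevalEquiv p).symm
  exact .comp _ (Algebra.adjoin K (Set.range v)) _

/-- The differentials of a separating family form a basis. -/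
theorem exists_basis {v : ι → L} (hb : AlgebraicIndependent K v)
    [Algebra.IsSeparable (IntermediateField.adjoin K (Set.range v)) L] :
    ∃ b : Module.Basis ι L Ω[L⁄K], ∀ i, b i = D K L (v i) := by
  let _ : Algebra (MvPolynomial ι K) L := (aeval v : MvPolynomial ι K →ₐ[K] L).toRingHom.toAlgebra
  have h : ∀ p : MvPolynomial ι K, algebraMap (MvPolynomial ι K) L p = aeval v p := fun p => rfl
  have hst : IsScalarTower K (MvPolynomial ι K) L := IsScalarTower.of_algebraMap_eq fun c => by
    rw [h]
    exact ((aeval v).commutes c).symm
  have := formallyEtale hb h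
  refine ⟨((mvPolynomialBasis K ι).baseChange L).map
    (tensorKaehlerEquivOfFormallyEtale K (MvPolynomial ι K) L), fun i => ?_⟩
  rw [Module.Basis.map_apply, Module.Basis.baseChange_apply, mvPolynomialBasis_apply,
    ← LinearEquiv.eq_symm_apply]
  have h2 := tensorKaehlerEquivOfFormallyEtale_symm_D_algebraMap K (MvPolynomial ι K) L (X i)
  rw [h, aeval_X] at h2
  exact h2.symm

/-- If the differentials of a family span, `L` is separable over the field generated by the family. -/
theorem isSeparable_of_span [Algebra.EssFiniteType K L] {x : ι → L}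
    (h : Submodule.span L (Set.range fun i : ι => D K L (x i)) = ⊤) :
    Algebra.IsSeparable (IntermediateField.adjoin K (Set.range x)) L := by
  have h1 : Algebra.EssFiniteType (IntermediateField.adjoin K (Set.range x)) L :=
    Algebra.EssFiniteType.of_comp K _ L
  rw [← Algebra.FormallyUnramified.iff_isSeparable]
  have hs := KaehlerDifferential.map_surjective K (IntermediateField.adjoin K (Set.range x)) L
  have h0 : ∀ y : Ω[L⁄K], KaehlerDifferential.map K (IntermediateField.adjoin K (Set.range x)) L L y = 0 := by
    intro y
    have hy : y ∈ Submodule.span L (Set.range fun i : ι => D K L (x i)) := by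
      rw [h]
      trivial
    induction hy using Submodule.span_induction with
    | mem y hy =>
      obtain ⟨i, rfl⟩ := hy
      rw [map_D]
      exact (D (IntermediateField.adjoin K (Set.range x)) L).map_algebraMap
        ⟨x i, IntermediateField.subset_adjoin K _ ⟨i, rfl⟩⟩
    | zero => rw [map_zero]
    | add a b _ _ ha hb => rw [map_add, ha, hb, add_zero]
    | smul c a _ ha => rw [map_smul, ha, smul_zero]
  refine ⟨?_⟩
  refine ⟨fun a b => ?_⟩
  obtain ⟨a, rfl⟩ := hs a
  obtain ⟨b, rfl⟩ := hs b
  rw [h0, h0]

/-- Over a perfect field there is a separating transcendence basis indexed by a given transcendence basis. -/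
theorem exists_separating [PerfectField K] [Algebra.EssFiniteType K L] :
    ∃ s : Finset L, IsTranscendenceBasis K ((↑) : s → L) ∧
      Algebra.IsSeparable (IntermediateField.adjoin K (Set.range ((↑) : s → L))) L := by
  obtain ⟨s, hs, H⟩ := exists_isTranscendenceBasis_and_isSeparable_of_perfectField K L
  refine ⟨s, hs, ?_⟩
  convert! H <;> simp

theorem rank_kaehler [PerfectField K] [Algebra.EssFiniteType K L] {x : ι → L}
    (hx : IsTranscendenceBasis K x) :
    Cardinal.lift.{w} (Module.rank L Ω[L⁄K]) = Cardinal.lift.{v} (Cardinal.mk ι) := by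
  obtain ⟨s, hs, H⟩ := exists_separating (K := K) (L := L)
  obtain ⟨b, -⟩ := exists_basis hs.1
  rw [← b.mk_eq_rank'', hs.lift_cardinalMk_eq hx]

end K79.KaehlerTr
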