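import Mathlib
import Groth.Agent.Sga4h.H222.TrLin
import Groth.Agent.Sga4h.H927.TracePi

/-!
Traces of multiplication maps over a residue field: additivity, powers of a prime, and
the trace over the product decomposition of `B / pB` for a Dedekind domain `B`.
-/

set_option autoImplicit false

namespace K79.TraceRes

section lin

variable {A B k : Type*} [CommRing A] [CommRing B] [Field k] [Algebra A B] [Algebra A k]

/-- multiplication by `y` as a `k`-linear map -/
def mulK (hk : Function.Surjective (algebraMap A k)) (y : B) (M : Type*) [AddCommGroup M]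
    [Module B M] [Module A M] [Module k M] [IsScalarTower A B M] [IsScalarTower A k M] :
    M →ₗ[k] M where
  toFun v := y • v
  map_add' := smul_add y
  map_smul' c v := by
    obtain ⟨a, rfl⟩ := hk c
    simp only [algebraMap_smul, RingHom.id_apply]
    rw [← algebraMap_smul B a v, ← algebraMap_smul B a (y • v), smul_smul, smul_smul, mul_comm]

/-- a `B`-linear map is `k`-linear -/
def toK (hk : Function.Surjective (algebraMap A k)) {M N : Type*} [AddCommGroup M]
    [Module B M] [Module A M] [Module k M] [IsScalarTower A B M] [IsScalarTower A k M]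
    [AddCommGroup N]
    [Module B N] [Module A N] [Module k N] [IsScalarTower A B N] [IsScalarTower A k N]
    (f : M →ₗ[B] N) : M →ₗ[k] N where
  toFun v := f v
  map_add' := map_add f
  map_smul' c v := by
    obtain ⟨a, rfl⟩ := hk c
    simp only [algebraMap_smul, RingHom.id_apply]
    rw [← algebraMap_smul B a v, ← algebraMap_smul B a (f v), map_smul]

/-- the trace of multiplication by `y` on `M` over `k` -/
noncomputable def tr (hk : Function.Surjective (algebraMap A k)) (y : B) (M : Type*) [AddCommGroup M]
    [Module B M] [Module A M] [Module k M] [IsScalarTower A B M] [IsScalarTower A k M] : k :=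
  LinearMap.trace k M (mulK hk y M)

theorem tr_exact (hk : Function.Surjective (algebraMap A k)) (y : B)
    {M₁ M₂ M₃ : Type*} [AddCommGroup M₁]
    [Module B M₁] [Module A M₁] [Module k M₁] [IsScalarTower A B M₁] [IsScalarTower A k M₁]
    [AddCommGroup M₂]
    [Module B M₂] [Module A M₂] [Module k M₂] [IsScalarTower A B M₂] [IsScalarTower A k M₂]
    [AddCommGroup M₃]
    [Module B M₃] [Module A M₃] [Module k M₃] [IsScalarTower A B M₃] [IsScalarTower A k M₃]
    [Module.Finite k M₂]
    (i : M₁ →ₗ[B] M₂) (p : M₂ →ₗ[B] M₃) (hi : Function.Injective i)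
    (hp : Function.Surjective p) (hex : Function.Exact i p) :
    tr hk y M₂ = tr hk y M₁ + tr hk y M₃ :=
  Groth.Agent.Sga4h.H222.TrLin.trace_add_of_exact (toK hk i) (toK hk p) hi hp hex _ _ _
    (fun v => (i.map_smul y v).symm) (fun v => p.map_smul y v)

theorem tr_iso (hk : Function.Surjective (algebraMap A k)) (y : B)
    {M N : Type*} [AddCommGroup M]
    [Module B M] [Module A M] [Module k M] [IsScalarTower A B M] [IsScalarTower A k M]
    [AddCommGroup N]
    [Module B N] [Module A N] [Module k N] [IsScalarTower A B N] [IsScalarTower A k N]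
    (e : M ≃ₗ[B] N) : tr hk y M = tr hk y N := by
  let e' : M ≃ₗ[k] N := { toK hk e.toLinearMap, e with }
  have h := LinearMap.trace_conj' (mulK hk y M) e'
  rw [tr, tr, ← h]
  congr 1
  ext v
  change e (y • (e.symm v)) = y • v
  rw [map_smul, LinearEquiv.apply_symm_apply]

theorem tr_pi (hk : Function.Surjective (algebraMap A k)) (y : B) {ι : Type*} [Fintype ι]
    [DecidableEq ι] (V : ι → Type*) [∀ i, AddCommGroup (V i)]
    [∀ i, Module B (V i)] [∀ i, Module A (V i)] [∀ i, Module k (V i)]
    [∀ i, IsScalarTower A B (V i)] [∀ i, IsScalarTower A k (V i)] [∀ i, Module.Finite k (V i)] :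
    tr hk y (∀ i, V i) = ∑ i, tr hk y (V i) := by
  rw [tr, Groth.Agent.Sga4h.H927.TracePi.trace_pi]
  refine Finset.sum_congr rfl fun i _ => ?_
  rw [tr]
  congr 1
  ext v
  change (y • (Pi.single i v : ∀ i, V i)) i = y • v
  simp

end lin

section pow

universe u

open Ideal

theorem tr_subsingleton {A B k : Type*} [CommRing A] [CommRing B] [Field k] [Algebra A B]
    [Algebra A k] (hk : Function.Surjective (algebraMap A k)) (y : B)
    (M : Type*) [AddCommGroup M] [Module B M] [Module A M] [Module k M] [IsScalarTower A B M]
    [IsScalarTower A k M] [Subsingleton M] : tr hk y M = 0 := by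
  rw [tr, Subsingleton.elim (mulK hk y M) 0, map_zero]

/-- the module structure over a quotient `k` of `A` on an `A`-module killed by the kernel -/
@[reducible]
noncomputable def kmod {A k : Type*} [CommRing A] [Field k] [Algebra A k]
    (hk : Function.Surjective (algebraMap A k)) (M : Type*) [AddCommGroup M] [Module A M]
    (h : ∀ a : A, algebraMap A k a = 0 → ∀ m : M, a • m = 0) : Module k M :=
  have key : ∀ (a : A) (m : M), (Function.surjInv hk (algebraMap A k a)) • m = a • m := by
    intro a m
    rw [← sub_eq_zero, ← sub_smul]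
    exact h _ (by rw [map_sub, Function.surjInv_eq hk, sub_self]) m
  { smul := fun c m => (Function.surjInv hk c) • m
    one_smul := fun m => by
      change (Function.surjInv hk (1 : k)) • m = m
      rw [← map_one (algebraMap A k), key, one_smul]
    mul_smul := fun c d m => by
      change (Function.surjInv hk (c * d)) • m =
        (Function.surjInv hk c) • ((Function.surjInv hk d) • m)
      obtain ⟨a, rfl⟩ := hk c
      obtain ⟨b, rfl⟩ := hk d
      rw [← map_mul, key, key, key, mul_smul]
    smul_zero := fun c => smul_zero _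
    smul_add := fun c m n => smul_add _ _ _
    add_smul := fun c d m => by
      change (Function.surjInv hk (c + d)) • m =
        (Function.surjInv hk c) • m + (Function.surjInv hk d) • m
      obtain ⟨a, rfl⟩ := hk c
      obtain ⟨b, rfl⟩ := hk d
      rw [← map_add, key, key, key, add_smul]
    zero_smul := fun m => by
      change (Function.surjInv hk (0 : k)) • m = 0
      rw [← map_zero (algebraMap A k), key, zero_smul] }

theorem kmod_tower {A k : Type*} [CommRing A] [Field k] [Algebra A k]
    (hk : Function.Surjective (algebraMap A k)) (M : Type*) [AddCommGroup M] [Module A M]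
    (h : ∀ a : A, algebraMap A k a = 0 → ∀ m : M, a • m = 0) :
    let _ := kmod hk M h
    IsScalarTower A k M := by
  let _ := kmod hk M h
  refine ⟨fun a c m => ?_⟩
  obtain ⟨b, rfl⟩ := hk c
  have key : ∀ (a : A) (m : M), (algebraMap A k a) • m = a • m := by
    intro a m
    change (Function.surjInv hk (algebraMap A k a)) • m = a • m
    rw [← sub_eq_zero, ← sub_smul]
    exact h _ (by rw [map_sub, Function.surjInv_eq hk, sub_self]) m
  rw [Algebra.smul_def, ← map_mul, key, key, mul_smul]

theorem finite_k {A B k : Type*} [CommRing A] [CommRing B] [Field k] [Algebra A B]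
    [Algebra A k] [Module.Finite A B]
    (M : Type*) [AddCommGroup M] [Module B M] [Module A M] [Module k M] [IsScalarTower A B M]
    [IsScalarTower A k M] [Module.Finite B M] : Module.Finite k M := by
  have : Module.Finite A M := Module.Finite.trans B M
  exact Module.Finite.of_restrictScalars_finite A k M

/-- quotients of a Dedekind domain by powers of a prime: the trace over `k` of `B/P^i` is `i` times
the one of `B/P`. -/
theorem tr_pow {A B k : Type*} [CommRing A] [CommRing B] [Field k] [Algebra A B] [Algebra A k]
    [Module.Finite A B] [IsDedekindDomain B]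
    (hk : Function.Surjective (algebraMap A k)) (y : B) (P : Ideal B) [P.IsPrime] (hP : P ≠ ⊥)
    [Module k (B ⧸ P)] [IsScalarTower A k (B ⧸ P)] (i : ℕ) :
    ∀ [Module k (B ⧸ P ^ i)] [IsScalarTower A k (B ⧸ P ^ i)],
      tr hk y (B ⧸ P ^ i) = i • tr hk y (B ⧸ P) := by
  induction i with
  | zero =>
    intro _ _
    have : Subsingleton (B ⧸ P ^ 0) := by
      rw [pow_zero, Ideal.one_eq_top]
      exact Ideal.Quotient.subsingleton_iff.mpr rfl
    rw [zero_smul, tr_subsingleton]
  | succ i ih =>
    intro _ _
    have hlt : P ^ (i + 1) < P ^ i := Ideal.pow_right_strictAnti P hP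
      (Ideal.IsPrime.ne_top inferInstance) (Nat.lt_succ_self i)
    obtain ⟨a, ha, ha'⟩ := SetLike.exists_of_lt hlt
    let g : (B ⧸ P ^ (i + 1)) →ₗ[B] (B ⧸ P ^ i) := Submodule.factor hlt.le
    have hg : Function.Surjective g := Submodule.factor_surjective hlt.le
    have hkill : ∀ c : A, algebraMap A k c = 0 → ∀ m : B ⧸ P ^ i, c • m = 0 := by
      intro c hc m
      obtain ⟨m', rfl⟩ := hg m
      have h1 : c • g m' = g (c • m') := (LinearMap.map_smul_of_tower g c m').symm
      rw [h1, ← algebraMap_smul k c m', hc, zero_smul, map_zero]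
    let _ := kmod hk (B ⧸ P ^ i) hkill
    have _ := kmod_tower hk (B ⧸ P ^ i) hkill
    let f : (B ⧸ P) →ₗ[B] (B ⧸ P ^ (i + 1)) :=
      Submodule.liftQ P ((Submodule.mkQ (P ^ (i + 1))) ∘ₗ (LinearMap.mulLeft B a)) (by
        intro b hb
        rw [LinearMap.mem_ker, LinearMap.comp_apply, LinearMap.mulLeft_apply,
          Submodule.mkQ_apply, Submodule.Quotient.mk_eq_zero, pow_succ]
        exact Ideal.mul_mem_mul ha hb)
    have hf : Function.Injective f := by
      rw [← LinearMap.ker_eq_bot, Submodule.ker_liftQ_eq_bot]
      intro b hb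
      rw [LinearMap.mem_ker, LinearMap.comp_apply, LinearMap.mulLeft_apply,
          Submodule.mkQ_apply, Submodule.Quotient.mk_eq_zero] at hb
      exact Ideal.mem_prime_of_mul_mem_pow hP ha' hb
    have hex : Function.Exact f g := by
      intro x
      obtain ⟨b, rfl⟩ := Submodule.mkQ_surjective _ x
      constructor
      · intro h
        have h' : b ∈ P ^ i := by
          rw [← Submodule.Quotient.mk_eq_zero (P ^ i)]
          exact h
        obtain ⟨d, e, he, hde⟩ := Ideal.exists_mul_add_mem_pow_succ hP a b ha ha' h'
        have hfd : f (Submodule.mkQ P d) = Submodule.mkQ (P ^ (i + 1)) b := by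
          change Submodule.mkQ (P ^ (i + 1)) (a * d) = Submodule.mkQ (P ^ (i + 1)) b
          rw [← sub_eq_zero, ← map_sub, Submodule.mkQ_apply, Submodule.Quotient.mk_eq_zero,
            ← hde, ← neg_mem_iff]
          rw [show -(a * d - (a * d + e)) = e by ring]
          exact he
        exact Set.mem_range.mpr (Exists.intro (Submodule.mkQ P d) hfd)
      · rintro ⟨d, hd⟩
        obtain ⟨d, rfl⟩ := Submodule.mkQ_surjective _ d
        rw [← hd]
        change (Submodule.Quotient.mk (a * d) : B ⧸ P ^ i) = 0
        rw [Submodule.Quotient.mk_eq_zero]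
        exact Ideal.mul_mem_right _ _ ha
    have : Module.Finite k (B ⧸ P ^ (i + 1)) := finite_k (A := A) (B := B) (k := k) _
    rw [tr_exact hk y f g hf hg hex, ih, add_smul, one_smul, add_comm]

end pow

end K79.TraceRes
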